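import Cfsg.Agent.Helper42.B43c.PBDefs
import Cfsg.Agent.Helper25.NPCSimple
import Cfsg.Agent.Helper78.IrrBasic
import Cfsg.Agent.Helper79.CharComplete

/-!
# S4700 (helper42), piece (F3): the degrees of the members of `X` and `Y` divide
`e · |G : N_G(P)|`  (helper10; adaptation of helper47's `B43/GL5.lean` to `PBlk`, no `C_G(P) = P`)
-/

set_option autoImplicit false
set_option linter.unusedSectionVars false

namespace Cfsg.Agent.Helper10.B43c

open Cfsg Cfsg.Agent.Helper42.B43c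

universe u

variable {G : Type u} [Group G] [Fintype G] {p : ℕ} [Fact p.Prime] (P : Sylow p G)

/-- a non-identity element of `P` -/
theorem F3_exists_ne_one (hP : Nat.card P = p) : ∃ u : G, u ∈ (P : Subgroup G) ∧ u ≠ 1 := by
  have hp : p.Prime := Fact.out
  have hnt : Nontrivial ↥(P : Subgroup G) := by
    rw [← Finite.one_lt_card_iff_nontrivial, hP]
    exact hp.one_lt
  obtain ⟨u, hu⟩ := exists_ne (1 : ↥(P : Subgroup G))
  exact ⟨(u : G), u.2, fun h => hu (Subtype.ext h)⟩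

/-- the index of the centralizer of a nontrivial element of `P` -/
theorem F3_index_centralizer (hP : Nat.card P = p) (x : G) (hx : x ∈ (P : Subgroup G))
    (hx1 : x ≠ 1) :
    (Subgroup.centralizer ({x} : Set G)).index =
      (Subgroup.centralizer ((P : Subgroup G) : Set G)).relIndex
        (Subgroup.normalizer ((P : Subgroup G) : Set G)) *
      (Subgroup.normalizer ((P : Subgroup G) : Set G)).index := by
  rw [Helper25.NPCSimple.centralizer_singleton_eq P hP x hx hx1]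
  have hle : Subgroup.centralizer ((P : Subgroup G) : Set G) ≤
      Subgroup.normalizer ((P : Subgroup G) : Set G) := Subgroup.centralizer_le_normalizer _
  exact (Subgroup.relIndex_mul_index hle).symm

variable {e : ℕ} (D : PBlk P e)

theorem F3_not_dvd_orderOf_one : ¬ p ∣ orderOf (1 : G) := by
  have hp : p.Prime := Fact.out
  rw [orderOf_one, Nat.dvd_one]
  exact hp.one_lt.ne'

/-- (F3) degrees in `X` divide `e · |G : N_G(P)|` -/
theorem PBlk.deg_dvd_X (hP : Nat.card P = p)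
    (he : (Subgroup.centralizer ((P : Subgroup G) : Set G)).relIndex
      (Subgroup.normalizer ((P : Subgroup G) : Set G)) = e) (χ : IrrCharacter G) (hχ : χ ∈ D.X) :
    charDegree (χ : G → ℂ) ∣ e * (Subgroup.normalizer ((P : Subgroup G) : Set G)).index := by
  obtain ⟨x₀, hx₀, hx₀1⟩ := F3_exists_ne_one P hP
  have hint := Helper78.isIntegral_centralChar χ.2 x₀
  unfold centralChar at hint
  have hval : (χ : G → ℂ) x₀ = (D.εX χ : ℂ) := by
    have := D.hvalX χ hχ x₀ hx₀ hx₀1 1 (Subgroup.one_mem _) F3_not_dvd_orderOf_one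
    rwa [mul_one] at this
  rw [F3_index_centralizer P hP x₀ hx₀ hx₀1, he, hval, Helper79.irr_one χ] at hint
  have hd0 : charDegree (χ : G → ℂ) ≠ 0 := (Helper79.irr_charDegree_pos χ).ne'
  have h2 : (((((e * (Subgroup.normalizer ((P : Subgroup G) : Set G)).index : ℕ) : ℤ) *
      D.εX χ : ℤ) : ℂ)) / ((charDegree (χ : G → ℂ) : ℕ) : ℂ) =
      ((e * (Subgroup.normalizer ((P : Subgroup G) : Set G)).index : ℕ) : ℂ) * (D.εX χ : ℂ) /
        ((charDegree (χ : G → ℂ) : ℕ) : ℂ) := by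
    push_cast
    ring
  rw [← h2] at hint
  have h3 := Helper25.NPCSimple.int_dvd_of_isIntegral_div' hd0 hint
  have h4 : ((charDegree (χ : G → ℂ) : ℕ) : ℤ) ∣
      ((e * (Subgroup.normalizer ((P : Subgroup G) : Set G)).index : ℕ) : ℤ) := by
    rcases D.hεX χ hχ with h | h
    · rw [h, mul_one] at h3
      exact h3
    · rw [h, mul_neg, mul_one, dvd_neg] at h3
      exact h3
  exact_mod_cast h4

/-- all members of `Y` have the same value at `1` -/
theorem PBlk.F3_Y_one_eq (θ θ' : IrrCharacter G) (hθ : θ ∈ D.Y) (hθ' : θ' ∈ D.Y) :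
    (θ : G → ℂ) 1 = (θ' : G → ℂ) 1 :=
  D.hYeq θ hθ θ' hθ' 1 F3_not_dvd_orderOf_one

/-- `∑_{θ ∈ Y} θ(x) = -ε` for `x ∈ P \ 1`, when `Y` is non-empty -/
theorem PBlk.F3_sum_Y_apply (θ₀ : IrrCharacter G) (hθ₀ : θ₀ ∈ D.Y) (x : G)
    (hx : x ∈ (P : Subgroup G)) (hx1 : x ≠ 1) :
    ∑ᶠ θ ∈ D.Y, (θ : G → ℂ) x = -(D.ε : ℂ) := by
  classical
  have hfin : Finite (IrrCharacter G) := Helper74.irr_finite
  have hXfin : D.X.Finite := Set.toFinite _
  have hYfin : D.Y.Finite := Set.toFinite _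
  have horth := D.horth x hx hx1
  rw [finsum_mem_union D.hdisj hXfin hYfin] at horth
  have h1 : ∑ᶠ χ ∈ D.X, (χ : G → ℂ) x * (χ : G → ℂ) 1 = (D.ε : ℂ) * (θ₀ : G → ℂ) 1 := by
    rw [D.hrel θ₀ hθ₀ 1 F3_not_dvd_orderOf_one]
    refine finsum_mem_congr rfl fun χ hχ => ?_
    have := D.hvalX χ hχ x hx hx1 1 (Subgroup.one_mem _) F3_not_dvd_orderOf_one
    rw [mul_one] at this
    rw [this]
  have h2 : ∑ᶠ θ ∈ D.Y, (θ : G → ℂ) x * (θ : G → ℂ) 1 =
      (∑ᶠ θ ∈ D.Y, (θ : G → ℂ) x) * (θ₀ : G → ℂ) 1 := by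
    rw [finsum_mem_eq_finite_toFinset_sum _ hYfin, finsum_mem_eq_finite_toFinset_sum _ hYfin,
      Finset.sum_mul]
    refine Finset.sum_congr rfl fun θ hθ => ?_
    rw [PBlk.F3_Y_one_eq P D θ θ₀ (hYfin.mem_toFinset.mp hθ) hθ₀]
  rw [h1, h2] at horth
  have hne : (θ₀ : G → ℂ) 1 ≠ 0 := Helper79.irr_one_ne_zero θ₀
  have h3 : ((D.ε : ℂ) + ∑ᶠ θ ∈ D.Y, (θ : G → ℂ) x) * (θ₀ : G → ℂ) 1 = 0 := by
    rw [add_mul]
    exact horth
  rcases mul_eq_zero.mp h3 with h | h
  · exact eq_neg_of_add_eq_zero_right h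
  · exact absurd h hne

/-- (F3) degrees in `Y` divide `e · |G : N_G(P)|` -/
theorem PBlk.deg_dvd_Y (hP : Nat.card P = p)
    (he : (Subgroup.centralizer ((P : Subgroup G) : Set G)).relIndex
      (Subgroup.normalizer ((P : Subgroup G) : Set G)) = e) (θ : IrrCharacter G) (hθ : θ ∈ D.Y) :
    charDegree (θ : G → ℂ) ∣ e * (Subgroup.normalizer ((P : Subgroup G) : Set G)).index := by
  classical
  have hfin : Finite (IrrCharacter G) := Helper74.irr_finite
  have hYfin : D.Y.Finite := Set.toFinite _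
  obtain ⟨x₀, hx₀, hx₀1⟩ := F3_exists_ne_one P hP
  -- the sum of the central characters over `Y` is integral
  have hint : IsIntegral ℤ (∑ ψ ∈ hYfin.toFinset, centralChar (ψ : G → ℂ) x₀) :=
    IsIntegral.sum _ (fun ψ _ => Helper78.isIntegral_centralChar ψ.2 x₀)
  have hsum : ∑ ψ ∈ hYfin.toFinset, centralChar (ψ : G → ℂ) x₀ =
      ((((e * (Subgroup.normalizer ((P : Subgroup G) : Set G)).index : ℕ) : ℤ) * (-D.ε) : ℤ) : ℂ) /
        ((charDegree (θ : G → ℂ) : ℕ) : ℂ) := by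
    have h1 : ∀ ψ ∈ hYfin.toFinset, centralChar (ψ : G → ℂ) x₀ =
        ((e * (Subgroup.normalizer ((P : Subgroup G) : Set G)).index : ℕ) : ℂ) /
          ((charDegree (θ : G → ℂ) : ℕ) : ℂ) * (ψ : G → ℂ) x₀ := by
      intro ψ hψ
      unfold centralChar
      rw [F3_index_centralizer P hP x₀ hx₀ hx₀1, he,
        PBlk.F3_Y_one_eq P D ψ θ (hYfin.mem_toFinset.mp hψ) hθ, Helper79.irr_one θ]
      ring
    rw [Finset.sum_congr rfl h1, ← Finset.mul_sum, ← finsum_mem_eq_finite_toFinset_sum _ hYfin,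
      PBlk.F3_sum_Y_apply P D θ hθ x₀ hx₀ hx₀1]
    push_cast
    ring
  rw [hsum] at hint
  have hd0 : charDegree (θ : G → ℂ) ≠ 0 := (Helper79.irr_charDegree_pos θ).ne'
  have h3 := Helper25.NPCSimple.int_dvd_of_isIntegral_div' hd0 hint
  have h4 : ((charDegree (θ : G → ℂ) : ℕ) : ℤ) ∣
      ((e * (Subgroup.normalizer ((P : Subgroup G) : Set G)).index : ℕ) : ℤ) := by
    rcases D.hε with h | h
    · rw [h, mul_neg, mul_one, dvd_neg] at h3
      exact h3
    · rw [h, neg_neg, mul_one] at h3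
      exact h3
  exact_mod_cast h4

end Cfsg.Agent.Helper10.B43c
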